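import Groth.Agent.SpreadFP.Basic
import Groth.Agent.ImmDescent.Basic

/-!
Birational morphisms of schemes with finitely many irreducible components are isomorphisms over
dense opens.
-/

set_option autoImplicit false
set_option linter.style.haveILetI false
universe u

open CategoryTheory AlgebraicGeometry TopologicalSpace

namespace Groth.Agent.SpreadFP

variable {X Y : Scheme.{u}}

/-- The generic points. -/
abbrev Gens (X : Scheme.{u}) : Set X := {x | closure {x} ∈ irreducibleComponents ↥X}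

lemma exists_gen_specializes (z : X) : ∃ x ∈ Gens X, x ⤳ z := by
  obtain ⟨x, hx⟩ := QuasiSober.sober (irreducibleComponent_mem_irreducibleComponents z).1
    (isClosed_irreducibleComponent (x := z))
  refine ⟨x, ?_, ?_⟩
  · show closure ({x} : Set X) ∈ irreducibleComponents ↥X
    rw [hx.def]; exact irreducibleComponent_mem_irreducibleComponents z
  · rw [specializes_iff_mem_closure, hx.def]; exact mem_irreducibleComponent

lemma dense_of_gens_subset {U : X.Opens} (h : Gens X ⊆ U) : Dense (U : Set X) := by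
  intro z
  obtain ⟨x, hx, hxz⟩ := exists_gen_specializes z
  exact closure_mono (Set.singleton_subset_iff.2 (h hx)) (specializes_iff_mem_closure.1 hxz)

lemma eq_of_gens_specializes {x x' : X} (hx' : x' ∈ Gens X) (h : x ⤳ x') : x = x' := by
  have h1 : closure {x'} ⊆ closure {x} := closure_minimal
    (Set.singleton_subset_iff.2 (specializes_iff_mem_closure.1 h)) isClosed_closure
  have h2 : x' ⤳ x := specializes_iff_mem_closure.2
    (hx'.2 isIrreducible_singleton.closure h1 (subset_closure rfl))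
  exact (h.antisymm h2).eq

/-- The points lying on the component of `y` only. -/
def only (hY : (irreducibleComponents (Y : Type u)).Finite) (y : Y) : Y.Opens :=
  ⟨(⋃₀ {Z ∈ irreducibleComponents (Y : Type u) | Z ≠ closure {y}})ᶜ, by
    refine @IsClosed.isOpen_compl _ _ _ ?_
    rw [Set.sUnion_eq_biUnion]
    exact (hY.subset fun Z hZ ↦ hZ.1).isClosed_biUnion
      fun Z hZ ↦ isClosed_of_mem_irreducibleComponents Z hZ.1⟩

lemma mem_only (hY : (irreducibleComponents (Y : Type u)).Finite) {y : Y} (hy : y ∈ Gens Y) :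
    y ∈ only hY y := by
  rintro ⟨Z, ⟨hZ, hne⟩, hyZ⟩
  have h1 : closure {y} ⊆ Z := closure_minimal (Set.singleton_subset_iff.2 hyZ)
    (isClosed_of_mem_irreducibleComponents Z hZ)
  exact hne ((hy.2 hZ.1 h1).antisymm h1)

lemma eq_of_mem_only (hY : (irreducibleComponents (Y : Type u)).Finite) {y y' z : Y}
    (hy : z ∈ only hY y) (hy' : z ∈ only hY y') : y = y' := by
  have h : ∀ {w : Y}, z ∈ only hY w → irreducibleComponent z = closure {w} := fun {w} hw ↦ by
    by_contra hne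
    exact hw ⟨_, ⟨irreducibleComponent_mem_irreducibleComponents z, hne⟩, mem_irreducibleComponent⟩
  have := (h hy).symm.trans (h hy')
  exact (inseparable_iff_closure_eq.2 this).eq

variable (f : X ⟶ Y)

lemma isIso_stalkMap_of_comp {A : Scheme.{u}} (a : A ⟶ X) [IsOpenImmersion a]
    [IsOpenImmersion (a ≫ f)] (p : A) : IsIso (f.stalkMap (a p)) := by
  haveI : IsIso (f.stalkMap (a p) ≫ a.stalkMap p) := by
    rw [← Scheme.Hom.stalkMap_comp]; exact (IsOpenImmersion.iff_isIso_stalkMap.1 inferInstance).2 p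
  exact IsIso.of_isIso_comp_right _ (a.stalkMap p)

lemma isIso_stalkMap_comp {A : Scheme.{u}} (a : A ⟶ X) [IsOpenImmersion a] (p : A)
    (h : IsIso (f.stalkMap (a p))) : IsIso ((a ≫ f).stalkMap p) := by
  haveI : IsIso (a.stalkMap p) := (IsOpenImmersion.iff_isIso_stalkMap.1 inferInstance).2 p
  rw [Scheme.Hom.stalkMap_comp]
  exact IsIso.comp_isIso' h ‹_›

/-- A birational morphism restricts to an open immersion on a dense open containing the generic
points. -/
theorem exists_isOpenImmersion_of_birational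
    (hYfin : (irreducibleComponents ↥Y).Finite)
    (hbij : Set.BijOn f (Gens X) (Gens Y))
    (hiso : ∀ x ∈ Gens X, IsIso (f.stalkMap x))
    (hf : (LocallyOfFiniteType f ∧ IsReduced Y) ∨ LocallyOfFinitePresentation f) :
    ∃ U : X.Opens, Gens X ⊆ U ∧ IsOpenImmersion (U.ι ≫ f) ∧ Gens Y ⊆ f '' (U : Set X) := by
  have hloc : ∀ x : Gens X, ∃ W : X.Opens, (x : X) ∈ W ∧ IsOpenImmersion (W.ι ≫ f) := fun x ↦ by
    haveI := hiso x x.2
    refine exists_isOpenImmersion_of_isIso_stalkMap f x ?_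
    rcases hf with ⟨h1, h2⟩ | h
    · exact .inr ⟨h1, isGermInjectiveAt_of_isReduced hYfin _⟩
    · exact .inl h
  choose W hxW hW using hloc
  let W' : Gens X → X.Opens := fun x ↦ W x ⊓ f ⁻¹ᵁ only hYfin (f x)
  let U : X.Opens := ⨆ x, W' x
  have hgen : Gens X ⊆ U := fun x hx ↦
    Opens.mem_iSup.2 ⟨⟨x, hx⟩, hxW _, mem_only hYfin (hbij.mapsTo hx)⟩
  refine ⟨U, hgen, ?_, fun y hy ↦ ?_⟩
  swap
  · obtain ⟨x, hx, rfl⟩ := hbij.surjOn hy
    exact ⟨x, hgen hx, rfl⟩
  rw [IsOpenImmersion.iff_isIso_stalkMap]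
  refine ⟨Topology.IsOpenEmbedding.of_continuous_injective_isOpenMap (U.ι ≫ f).continuous ?_ ?_, fun p ↦ ?_⟩
  · rintro ⟨p, hp⟩ ⟨q, hq⟩ (hpq : f p = f q)
    obtain ⟨x, hpW, hpx⟩ := Opens.mem_iSup.1 hp
    obtain ⟨x', hqW, hqx⟩ := Opens.mem_iSup.1 hq
    have hxx : x = x' := Subtype.ext (hbij.injOn x.2 x'.2
      (eq_of_mem_only hYfin (show f p ∈ only hYfin (f x) from hpx) (hpq ▸ hqx)))
    subst hxx
    haveI := hW x
    have := ((W x).ι ≫ f).isOpenEmbedding.injective (a₁ := ⟨p, hpW⟩) (a₂ := ⟨q, hqW⟩) hpq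
    exact Subtype.ext (congrArg Subtype.val this :)
  · intro O hO
    have : (U.ι ≫ f) '' O = ⋃ x, ((W x).ι ≫ f) ''
        ((W x).ι ⁻¹' ((U.ι '' O) ∩ W' x)) := by
      ext y
      simp only [Set.mem_iUnion, Set.mem_image, Set.mem_preimage, Set.mem_inter_iff]
      constructor
      · rintro ⟨p, hp, rfl⟩
        obtain ⟨x, hpx⟩ := Opens.mem_iSup.1 p.2
        exact ⟨x, ⟨p.1, hpx.1⟩, ⟨⟨p, hp, rfl⟩, hpx⟩, rfl⟩
      · rintro ⟨x, q, ⟨⟨p, hp, hpq⟩, -⟩, rfl⟩
        exact ⟨p, hp, congrArg f hpq⟩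
    rw [this]
    refine isOpen_iUnion fun x ↦ ?_
    haveI := hW x
    exact ((W x).ι ≫ f).isOpenEmbedding.isOpenMap _
      (((U.ι.isOpenEmbedding.isOpenMap _ hO).inter (W' x).2).preimage (W x).ι.continuous)
  · obtain ⟨x, hpx⟩ := Opens.mem_iSup.1 p.2
    haveI := hW x
    exact isIso_stalkMap_comp f U.ι p (isIso_stalkMap_of_comp f (W x).ι ⟨p.1, hpx.1⟩)

lemma isIso_of_isOpenImmersion_of_surjective [IsOpenImmersion f]
    (h : Function.Surjective f) : IsIso f := by
  haveI : Epi f.base := (TopCat.epi_iff_surjective _).2 h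
  exact IsOpenImmersion.isIso f

/-- An isomorphism between opens from an open immersion on the source open. -/
theorem isIso_resLE_image (U : X.Opens) [IsOpenImmersion (U.ι ≫ f)]
    (hle : U ≤ f ⁻¹ᵁ (U.ι ≫ f).opensRange) :
    IsIso (f.resLE (U.ι ≫ f).opensRange U hle) := by
  rw [show f.resLE (U.ι ≫ f).opensRange U hle = (U.ι ≫ f).isoOpensRange.hom by
    rw [← cancel_mono (U.ι ≫ f).opensRange.ι, Scheme.Hom.resLE_comp_ι,
      Scheme.Hom.isoOpensRange_hom_ι]]
  infer_instance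

/-- If the preimage of `V` lies in an open `U` mapped isomorphically onto an open containing `V`,
then `f` is an isomorphism over `V`. -/
theorem isIso_morphismRestrict (U : X.Opens) [IsOpenImmersion (U.ι ≫ f)] (V : Y.Opens)
    (hVU : f ⁻¹ᵁ V ≤ U) (hV : (V : Set Y) ⊆ f '' (U : Set X)) : IsIso (f ∣_ V) := by
  haveI : IsOpenImmersion ((f ∣_ V) ≫ V.ι) := by
    rw [morphismRestrict_ι, ← Scheme.homOfLE_ι X hVU, Category.assoc]
    infer_instance
  haveI : IsOpenImmersion (f ∣_ V) := IsOpenImmersion.of_comp _ V.ι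
  refine isIso_of_isOpenImmersion_of_surjective _ fun ⟨y, hy⟩ ↦ ?_
  obtain ⟨x, -, rfl⟩ := hV hy
  refine ⟨⟨x, hy⟩, ?_⟩
  apply V.ι.isOpenEmbedding.injective
  show ((f ∣_ V) ≫ V.ι) ⟨x, hy⟩ = f x
  rw [morphismRestrict_ι]; rfl

/-- The fibre of a birational morphism over a generic point is the corresponding generic point. -/
theorem eq_of_map_mem_gens (hbij : Set.BijOn f (Gens X) (Gens Y))
    (hiso : ∀ x ∈ Gens X, IsIso (f.stalkMap x)) {p : X} (hp : f p ∈ Gens Y) : p ∈ Gens X := by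
  obtain ⟨x, hx, hxp⟩ := exists_gen_specializes p
  have h : f x = f p := eq_of_gens_specializes hp (hxp.map f.continuous)
  haveI := hiso x hx
  rwa [← eq_of_specializes_of_surjective_stalkMap f hxp h
    (ConcreteCategory.bijective_of_isIso (f.stalkMap x)).2]

/-- A birational quasi-compact or separated morphism is an isomorphism over a dense open. -/
theorem exists_isIso_morphismRestrict_of_birational
    (hYfin : (irreducibleComponents ↥Y).Finite)
    (hbij : Set.BijOn f (Gens X) (Gens Y))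
    (hiso : ∀ x ∈ Gens X, IsIso (f.stalkMap x))
    (hf₁ : QuasiCompact f ∨ IsSeparated f)
    (hf : (LocallyOfFiniteType f ∧ IsReduced Y) ∨ LocallyOfFinitePresentation f) :
    ∃ V : Y.Opens, Dense (V : Set ↥Y) ∧ IsIso (f ∣_ V) := by
  obtain ⟨U, hU, hUf, hUY⟩ := exists_isOpenImmersion_of_birational f hYfin hbij hiso hf
  rcases hf₁ with hqc | hsep
  · let K : Set X := (U : Set X)ᶜ
    let V : Y.Opens := (U.ι ≫ f).opensRange ⊓ ⟨(closure (f '' K))ᶜ, isClosed_closure.isOpen_compl⟩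
    refine ⟨V, dense_of_gens_subset fun y hy ↦ ⟨?_, ?_⟩, isIso_morphismRestrict f U V (fun p hp ↦ ?_) ?_⟩
    · obtain ⟨x, hx, rfl⟩ := hUY hy
      exact ⟨⟨x, hx⟩, rfl⟩
    · intro hy'
      let I := Scheme.IdealSheafData.vanishingIdeal ⟨K, U.2.isClosed_compl⟩
      have hr : Set.range I.subschemeι = K := by
        rw [Scheme.IdealSheafData.range_subschemeι]; rfl
      have hrange : f '' K = Set.range (I.subschemeι ≫ f) := by
        rw [← hr, ← Set.range_comp]; rfl
      rw [hrange] at hy'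
      obtain ⟨z, hz⟩ := ImmDescent.exists_specializes_of_mem_closure_range (I.subschemeι ≫ f) hy'
      have hzy : f (I.subschemeι z) = y := eq_of_gens_specializes hy hz
      exact (hr.subset ⟨z, rfl⟩) (hU (eq_of_map_mem_gens f hbij hiso (by rw [hzy]; exact hy)))
    · by_contra hpU
      exact hp.2 (subset_closure ⟨p, hpU, rfl⟩)
    · rintro y ⟨⟨⟨x, hx⟩, rfl⟩, -⟩
      exact ⟨x, hx, rfl⟩
  · let V : Y.Opens := (U.ι ≫ f).opensRange
    refine ⟨V, dense_of_gens_subset fun y hy ↦ ?_, isIso_morphismRestrict f U V ?_ ?_⟩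
    · obtain ⟨x, hx, rfl⟩ := hUY hy
      exact ⟨⟨x, hx⟩, rfl⟩
    · -- the section over `V` is a closed immersion
      haveI : IsSeparated (f ∣_ V) := IsZariskiLocalAtTarget.restrict hsep V
      have hle : U ≤ f ⁻¹ᵁ V := fun p hp ↦ ⟨⟨p, hp⟩, rfl⟩
      haveI : IsClosedImmersion (X.homOfLE hle) := by
        haveI : IsIso ((X.homOfLE hle) ≫ (f ∣_ V)) := by
          haveI := isIso_resLE_image f U hle
          exact this
        exact IsClosedImmersion.of_comp (X.homOfLE hle) (f ∣_ V)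
      intro p hp
      by_contra hpU
      let O : Set X := (f ⁻¹ᵁ V).ι '' (Set.range (X.homOfLE hle))ᶜ
      have hO : IsOpen O := (f ⁻¹ᵁ V).ι.isOpenEmbedding.isOpenMap _
        (X.homOfLE hle).isClosedEmbedding.isClosed_range.isOpen_compl
      have hpO : p ∈ O := ⟨⟨p, hp⟩, fun ⟨q, hq⟩ ↦ hpU (by
        have := congrArg (f ⁻¹ᵁ V).ι hq
        rw [← Scheme.Hom.comp_apply, Scheme.homOfLE_ι] at this
        have h2 : U.ι q = p := this
        rw [← h2]; exact q.2), rfl⟩
      obtain ⟨x, hx, hxp⟩ := exists_gen_specializes p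
      obtain ⟨⟨_, h'⟩, hq, rfl⟩ := hxp.mem_open hO hpO
      exact hq ⟨⟨_, hU hx⟩, (f ⁻¹ᵁ V).ι.isOpenEmbedding.injective
        (by rw [← Scheme.Hom.comp_apply, Scheme.homOfLE_ι]; rfl)⟩
    · rintro y ⟨⟨x, hx⟩, rfl⟩
      exact ⟨x, hx, rfl⟩

end Groth.Agent.SpreadFP
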