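import Mathlib
import Groth.Agent.RatMapD.Spread

/-!
Spreading out morphisms from stalks: targets locally of finite presentation (no germ-injectivity),
and the resulting criterion for being a local isomorphism.
-/

set_option autoImplicit false
set_option linter.style.haveILetI false
universe u

open CategoryTheory AlgebraicGeometry TopologicalSpace

namespace Groth.Agent.SpreadFP

variable {X Y S : Scheme.{u}}

/-- Lifting a map from a finitely presented algebra into a stalk to a neighbourhood. -/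
lemma exists_lift_of_finitePresentation {R A : CommRingCat.{u}} {x : X} {U : X.Opens} (hxU : x ∈ U)
    (φ : A ⟶ X.presheaf.stalk x) (φRA : R ⟶ A) (φRX : R ⟶ Γ(X, U))
    (hφRA : RingHom.FinitePresentation φRA.hom)
    (e : φRA ≫ φ = φRX ≫ X.presheaf.germ U x hxU) :
    ∃ (V : X.Opens) (hxV : x ∈ V) (φ' : A ⟶ Γ(X, V)) (i : V ≤ U), IsAffineOpen V ∧
      φ = φ' ≫ X.presheaf.germ V x hxV ∧ φRX ≫ X.presheaf.map i.hom.op = φRA ≫ φ' := by
  classical
  let := φRA.hom.toAlgebra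
  obtain ⟨n, π, hπ, hker⟩ := hφRA
  choose W hxW f hf using fun t ↦ X.presheaf.exists_germ_eq (φ (π (MvPolynomial.X t)))
  let V₀ := Finset.univ.inf W ⊓ U
  have hx₀ : x ∈ V₀ := by
    rw [← SetLike.mem_coe, TopologicalSpace.Opens.coe_inf, TopologicalSpace.Opens.coe_finset_inf]
    exact ⟨by simpa using fun t ↦ hxW t, hxU⟩
  let g : Fin n → Γ(X, V₀) := fun t ↦
    X.presheaf.map (homOfLE (inf_le_left.trans (Finset.inf_le (Finset.mem_univ t)))).op (f t)
  let ψ : MvPolynomial (Fin n) R →+* Γ(X, V₀) :=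
    MvPolynomial.eval₂Hom (φRX ≫ X.presheaf.map (homOfLE (inf_le_right : V₀ ≤ U)).op).hom g
  have hψ : (X.presheaf.germ V₀ x hx₀).hom.comp ψ = φ.hom.comp π.toRingHom := by
    refine MvPolynomial.ringHom_ext (fun r ↦ ?_) fun t ↦ ?_
    · rw [RingHom.comp_apply, MvPolynomial.eval₂Hom_C, RingHom.comp_apply]
      change X.presheaf.germ _ _ _ (X.presheaf.map _ (φRX r)) = φ (π (MvPolynomial.C r))
      rw [TopCat.Presheaf.germ_res_apply, ← MvPolynomial.algebraMap_eq, π.commutes]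
      exact (DFunLike.congr_fun (congr_arg CommRingCat.Hom.hom e) r).symm
    · rw [RingHom.comp_apply, MvPolynomial.eval₂Hom_X', RingHom.comp_apply]
      exact (X.presheaf.germ_res_apply _ _ _ _).trans (hf t)
  obtain ⟨s, hs⟩ := hker
  have hz : ∀ a ∈ s, ∃ (V : X.Opens) (_ : x ∈ V) (i : V ≤ V₀),
      X.presheaf.map i.hom.op (ψ a) = 0 := by
    intro a ha
    have h0 : a ∈ RingHom.ker π.toRingHom := by rw [← hs]; exact Ideal.subset_span ha
    rw [RingHom.mem_ker] at h0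
    have h1 : X.presheaf.germ V₀ x hx₀ (ψ a) = X.presheaf.germ V₀ x hx₀ 0 := by
      rw [map_zero]
      exact (DFunLike.congr_fun hψ a).trans (by rw [RingHom.comp_apply, h0, map_zero])
    obtain ⟨V, hxV, i, i', hi⟩ := X.presheaf.germ_eq x hx₀ hx₀ _ _ h1
    exact ⟨V, hxV, i.le, show X.presheaf.map i.op (ψ a) = 0 from hi.trans (map_zero _)⟩
  choose V hxV i hi using hz
  have hxV₁ : x ∈ s.attach.inf (fun a ↦ V a.1 a.2) ⊓ V₀ := by
    rw [← SetLike.mem_coe, TopologicalSpace.Opens.coe_inf, TopologicalSpace.Opens.coe_finset_inf]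
    exact ⟨by simpa using fun a ha ↦ hxV a ha, hx₀⟩
  obtain ⟨V', hV', hxV', hle⟩ := exists_isAffineOpen_mem_and_subset (U := s.attach.inf (fun a ↦ V a.1 a.2) ⊓ V₀) hxV₁
  have hle₀ : V' ≤ V₀ := fun y hy ↦ (hle hy).2
  let ρ : MvPolynomial (Fin n) R →+* Γ(X, V') := (X.presheaf.map hle₀.hom.op).hom.comp ψ
  have hρ : RingHom.ker π.toRingHom ≤ RingHom.ker ρ := by
    rw [show RingHom.ker π.toRingHom = Ideal.span (s : Set _) from hs.symm, Ideal.span_le]
    intro a ha
    have hVa : V' ≤ V a ha := fun y hy ↦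
      (Finset.inf_le (Finset.mem_attach s ⟨a, ha⟩) : s.attach.inf (fun a ↦ V a.1 a.2) ≤ V a ha) (hle hy).1
    change X.presheaf.map hle₀.hom.op (ψ a) = 0
    rw [show hle₀.hom = hVa.hom ≫ (i a ha).hom from rfl, op_comp, Functor.map_comp,
      ConcreteCategory.comp_apply, hi, map_zero]
  let φ' : A →+* Γ(X, V') := π.toRingHom.liftOfSurjective hπ ⟨ρ, hρ⟩
  have hφ' : ∀ p, φ' (π p) = ρ p := fun p ↦ π.toRingHom.liftOfRightInverse_comp_apply _ _ ⟨ρ, hρ⟩ p
  refine ⟨V', hxV', CommRingCat.ofHom φ', hle₀.trans inf_le_right, hV', ?_, ?_⟩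
  · ext a
    obtain ⟨p, rfl⟩ := hπ a
    change φ (π p) = X.presheaf.germ V' x hxV' (φ' (π p))
    rw [hφ']
    change _ = X.presheaf.germ V' x hxV' (X.presheaf.map _ (ψ p))
    rw [TopCat.Presheaf.germ_res_apply]
    exact (DFunLike.congr_fun hψ p).symm
  · ext r
    change X.presheaf.map _ (φRX r) = φ' (φRA r)
    rw [show φRA r = π (algebraMap R _ r) from (π.commutes r).symm, hφ']
    change _ = X.presheaf.map _ (ψ (MvPolynomial.C r))
    rw [MvPolynomial.eval₂Hom_C]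
    change _ = X.presheaf.map _ (X.presheaf.map _ (φRX r))
    rw [← ConcreteCategory.comp_apply (X.presheaf.map _) (X.presheaf.map _),
      ← X.presheaf.map_comp]
    rfl

/-- An `S`-morphism `Spec 𝒪_{X,x} ⟶ Y` extends to a neighbourhood of `x` when `Y` is locally of
finite presentation over `S`. -/
theorem spread_out_of_locallyOfFinitePresentation (sX : X ⟶ S) (sY : Y ⟶ S)
    [LocallyOfFinitePresentation sY] {x : X} (φ : Spec (X.presheaf.stalk x) ⟶ Y)
    (h : φ ≫ sY = X.fromSpecStalk x ≫ sX) :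
    ∃ (U : X.Opens) (hxU : x ∈ U) (f : U.toScheme ⟶ Y),
      φ = U.fromSpecStalkOfMem x hxU ≫ f ∧ f ≫ sY = U.ι ≫ sX := by
  obtain ⟨y, hy⟩ : ∃ y, φ (IsLocalRing.closedPoint _) = y := ⟨_, rfl⟩
  have e : sX x = sY y := by
    rw [← hy, ← Scheme.Hom.comp_apply, h, Scheme.Hom.comp_apply, Scheme.fromSpecStalk_closedPoint]
  subst hy
  obtain ⟨_, ⟨U, hU, rfl⟩, hxU, -⟩ :=
    S.isBasis_affineOpens.exists_subset_of_mem_open (Set.mem_univ (sX x)) isOpen_univ
  have hyU : sY (φ (IsLocalRing.closedPoint _)) ∈ U := e ▸ hxU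
  obtain ⟨_, ⟨V : Y.Opens, hV, rfl⟩, hyV, iVU⟩ :=
    Y.isBasis_affineOpens.exists_subset_of_mem_open hyU (sY ⁻¹ᵁ U).2
  let ψ := Y.presheaf.germ V _ hyV ≫ Scheme.stalkClosedPointTo φ
  have hψ : φ = Spec.map ψ ≫ hV.fromSpec := by
    rw [Spec.map_comp, Category.assoc, ← IsAffineOpen.fromSpecStalk,
      IsAffineOpen.fromSpecStalk_eq_fromSpecStalk, Scheme.Spec_stalkClosedPointTo_fromSpecStalk]
  have this : sY.appLE U V iVU ≫ ψ = sX.app U ≫ X.presheaf.germ (sX ⁻¹ᵁ U) x hxU := by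
    apply Spec.map_injective
    rw [← cancel_mono hU.fromSpec, Spec.map_comp, Category.assoc,
      IsAffineOpen.SpecMap_appLE_fromSpec sY hU hV iVU, ← Category.assoc, ← hψ, h]
    obtain ⟨_, ⟨W : X.Opens, hW, rfl⟩, hxW, iWU⟩ :=
      X.isBasis_affineOpens.exists_subset_of_mem_open hxU (sX ⁻¹ᵁ U).2
    rw [← X.presheaf.germ_res (homOfLE iWU) x hxW, ← Category.assoc,
      ← hW.fromSpecStalk_eq_fromSpecStalk hxW, IsAffineOpen.fromSpecStalk]
    simp only [Spec.map_comp, Category.assoc]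
    rw [← IsAffineOpen.SpecMap_appLE_fromSpec sX hU hW iWU, ← Spec.map_comp_assoc]
    simp only [Scheme.Hom.appLE, Spec.map_comp, Category.assoc]
  obtain ⟨W, hxW, φ', i, hW, h₁, h₂⟩ :=
    exists_lift_of_finitePresentation (R := Γ(S, U)) (A := Γ(Y, V)) (U := sX ⁻¹ᵁ U) hxU
    ψ (sY.appLE U V iVU) (sX.app U)
    (sY.finitePresentation_appLE hU hV _) this
  refine ⟨W, hxW, W.toSpecΓ ≫ Spec.map φ' ≫ hV.fromSpec, ?_, ?_⟩
  · rw [W.fromSpecStalkOfMem_toSpecΓ_assoc x hxW, ← Spec.map_comp_assoc, ← h₁, hψ]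
  · simp only [Category.assoc]
    rw [← IsAffineOpen.SpecMap_appLE_fromSpec sY hU hV iVU, ← Spec.map_comp_assoc, ← h₂,
      ← Scheme.Hom.appLE, ← hW.isoSpec_hom, IsAffineOpen.SpecMap_appLE_fromSpec sX hU hW i,
      ← Iso.eq_inv_comp, IsAffineOpen.isoSpec_inv_ι_assoc]

/-- Combined form of the spreading out lemmas. -/
theorem spread_out (sX : X ⟶ S) (sY : Y ⟶ S) {x : X}
    (hY : LocallyOfFinitePresentation sY ∨ (LocallyOfFiniteType sY ∧ X.IsGermInjectiveAt x))
    (φ : Spec (X.presheaf.stalk x) ⟶ Y) (h : φ ≫ sY = X.fromSpecStalk x ≫ sX) :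
    ∃ (U : X.Opens) (hxU : x ∈ U) (f : U.toScheme ⟶ Y),
      φ = U.fromSpecStalkOfMem x hxU ≫ f ∧ f ≫ sY = U.ι ≫ sX := by
  rcases hY with hY | ⟨hY, hg⟩
  · exact spread_out_of_locallyOfFinitePresentation sX sY φ h
  · exact spread_out_of_isGermInjective' sX sY φ h

/-- An isomorphism on stalks is an open immersion nearby, for morphisms locally of finite
presentation, or of finite type with germ-injective target. -/
theorem exists_isOpenImmersion_of_isIso_stalkMap (f : X ⟶ Y) (x : X) [IsIso (f.stalkMap x)]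
    (hf : LocallyOfFinitePresentation f ∨ (LocallyOfFiniteType f ∧ Y.IsGermInjectiveAt (f x))) :
    ∃ U : X.Opens, x ∈ U ∧ IsOpenImmersion (U.ι ≫ f) := by
  haveI : LocallyOfFiniteType f := hf.elim (fun _ ↦ inferInstance) And.left
  obtain ⟨V, hV, g, hg₁, hg₂⟩ := spread_out (𝟙 Y) f hf
    (Spec.map (inv (f.stalkMap x)) ≫ X.fromSpecStalk x) (by
      rw [Category.assoc, ← Scheme.SpecMap_stalkMap_fromSpecStalk, ← Spec.map_comp_assoc,
        IsIso.hom_inv_id, Spec.map_id, Category.id_comp, Category.comp_id])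
  rw [Category.comp_id] at hg₂
  let W : X.Opens := f ⁻¹ᵁ V
  let a : W.toScheme ⟶ X := (f ∣_ V) ≫ g
  have ha : a ≫ f = W.ι ≫ f := by simp [a, W, hg₂]
  have key : W.fromSpecStalkOfMem x hV ≫ a = W.fromSpecStalkOfMem x hV ≫ W.ι := by
    have h1 : W.fromSpecStalkOfMem x hV ≫ (f ∣_ V) =
        Spec.map (f.stalkMap x) ≫ V.fromSpecStalkOfMem (f x) hV := by
      rw [← cancel_mono V.ι, Category.assoc, morphismRestrict_ι, Category.assoc,
        Scheme.Opens.fromSpecStalkOfMem_ι_assoc, Scheme.Opens.fromSpecStalkOfMem_ι,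
        Scheme.SpecMap_stalkMap_fromSpecStalk]
    rw [Scheme.Opens.fromSpecStalkOfMem_ι, reassoc_of% h1, ← hg₁, ← Spec.map_comp_assoc,
      IsIso.inv_hom_id, Spec.map_id, Category.id_comp]
  obtain ⟨O, hxO, hO⟩ := RatMapD.spread_out_unique_of_locallyOfFiniteType f a W.ι ha
    (RatMapD.fromSpecStalk_comp_eq_of_fromSpecStalkOfMem_comp_eq W hV a W.ι key)
  -- `U` is the image of `O` in `X`
  let U : X.Opens := W.ι ''ᵁ O
  refine ⟨U, ⟨⟨x, hV⟩, hxO, rfl⟩, ?_⟩
  have hUW : U ≤ f ⁻¹ᵁ V := by rintro _ ⟨p, -, rfl⟩; exact p.2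
  let u : U.toScheme ⟶ V.toScheme := f.resLE V U hUW
  have hu : u ≫ g = U.ι := by
    rw [← cancel_epi (W.ι.isoImage O).hom]
    change (W.ι.isoImage O).hom ≫ u ≫ g = (W.ι.isoImage O).hom ≫ (W.ι ''ᵁ O).ι
    rw [Scheme.Hom.isoImage_hom_ι]
    have : (W.ι.isoImage O).hom ≫ u = O.ι ≫ (f ∣_ V) := by
      rw [← cancel_mono V.ι, Category.assoc, Category.assoc, morphismRestrict_ι,
        Scheme.Hom.resLE_comp_ι, Scheme.Hom.isoImage_hom_ι_assoc]
    rw [reassoc_of% this]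
    exact hO
  have hu' : U ≤ U ∧ Set.range u ⊆ (g ⁻¹ᵁ U : Set V) := by
    refine ⟨le_rfl, ?_⟩
    rintro _ ⟨p, rfl⟩
    change (u ≫ g) p ∈ U
    rw [hu]
    exact p.2
  obtain ⟨v, hv⟩ : ∃ v, v ≫ (g ⁻¹ᵁ U).ι = u :=
    ⟨_, IsOpenImmersion.lift_fac (g ⁻¹ᵁ U).ι u (by rw [Scheme.Opens.range_ι]; exact hu'.2)⟩
  have hw : (g ∣_ U) ≫ U.ι ≫ f = (g ⁻¹ᵁ U).ι ≫ V.ι := by
    rw [morphismRestrict_ι_assoc, hg₂]
  haveI : IsIso (g ∣_ U) := ⟨v, by
    rw [← cancel_mono ((g ⁻¹ᵁ U).ι ≫ V.ι), Category.assoc, reassoc_of% hv,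
      Scheme.Hom.resLE_comp_ι, hw, Category.id_comp], by
    rw [← cancel_mono U.ι, Category.assoc, morphismRestrict_ι, reassoc_of% hv, hu,
      Category.id_comp]⟩
  rw [show U.ι ≫ f = inv (g ∣_ U) ≫ (g ⁻¹ᵁ U).ι ≫ V.ι by rw [← hw, IsIso.inv_hom_id_assoc]]
  infer_instance

/-- A specialization inside a fibre at which the generization has surjective stalk map is trivial. -/
theorem eq_of_specializes_of_surjective_stalkMap (f : X ⟶ Y) {x p : X} (h : x ⤳ p)
    (he : f x = f p) (hs : Function.Surjective (f.stalkMap x)) : x = p := by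
  have key := Scheme.Hom.stalkSpecializes_stalkMap f x p h
  haveI : IsLocalHom (X.presheaf.stalkSpecializes h).hom := by
    constructor
    intro a ha
    obtain ⟨c, hc⟩ := hs (X.presheaf.stalkSpecializes h a)
    have hcu : IsUnit c := IsUnit.of_map (f.stalkMap x).hom c (hc ▸ ha)
    let c' := Y.presheaf.stalkSpecializes (Inseparable.of_eq he).symm.specializes c
    have hc' : Y.presheaf.stalkSpecializes (h.map f.continuous) c' = c := by
      simp [c', ← ConcreteCategory.comp_apply]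
    have hc'u : IsUnit c' := hcu.map (Y.presheaf.stalkSpecializes _).hom
    have hd : X.presheaf.stalkSpecializes h (a - f.stalkMap p c') = 0 := by
      rw [map_sub, ← hc, ← hc', sub_eq_zero]
      exact congr($(key) c')
    have hd' : ¬ IsUnit (a - f.stalkMap p c') := fun hu ↦
      not_isUnit_zero (hd ▸ hu.map (X.presheaf.stalkSpecializes h).hom)
    by_contra hn
    have := IsLocalRing.nonunits_add (a := a) (b := -(a - f.stalkMap p c')) hn
      (by rw [mem_nonunits_iff, IsUnit.neg_iff]; exact hd')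
    rw [show a + -(a - f.stalkMap p c') = f.stalkMap p c' by ring] at this
    exact this (hc'u.map (f.stalkMap p).hom)
  have := congr($(Scheme.SpecMap_stalkSpecializes_fromSpecStalk h) (IsLocalRing.closedPoint _))
  rw [Scheme.Hom.comp_apply, Scheme.fromSpecStalk_closedPoint] at this
  change X.fromSpecStalk p (PrimeSpectrum.comap _ (IsLocalRing.closedPoint _)) = x at this
  rw [IsLocalRing.comap_closedPoint, Scheme.fromSpecStalk_closedPoint] at this
  exact this.symm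

/-- On a reduced scheme with finitely many irreducible components every point is germ-injective. -/
theorem isGermInjectiveAt_of_isReduced [IsReduced Y]
    (hY : (irreducibleComponents (Y : Type u)).Finite) (y : Y) : Y.IsGermInjectiveAt y := by
  let C : Set (Set Y) := {Z ∈ irreducibleComponents (Y : Type u) | y ∉ Z}
  have hC : IsClosed (⋃₀ C) := by
    rw [Set.sUnion_eq_biUnion]
    exact (hY.subset fun Z hZ ↦ hZ.1).isClosed_biUnion
      fun Z hZ ↦ isClosed_of_mem_irreducibleComponents Z hZ.1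
  obtain ⟨V, hV, hyV, hle⟩ := exists_isAffineOpen_mem_and_subset (X := Y) (x := y)
    (U := ⟨(⋃₀ C)ᶜ, hC.isOpen_compl⟩) (by
      rintro ⟨Z, ⟨-, hyZ⟩, hy⟩
      exact hyZ hy)
  refine ⟨⟨V, hyV, hV, ?_⟩⟩
  rw [injective_iff_map_eq_zero]
  intro a ha
  have hemp : Y.basicOpen a = ⊥ := by
    ext z
    simp only [TopologicalSpace.Opens.coe_bot, Set.mem_empty_iff_false, iff_false, SetLike.mem_coe]
    intro hz
    have hzV : z ∈ V := Y.basicOpen_le a hz
    obtain ⟨Z, hZ, hzZ⟩ : ∃ Z ∈ irreducibleComponents (Y : Type u), z ∈ Z :=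
      ⟨irreducibleComponent z, irreducibleComponent_mem_irreducibleComponents z, mem_irreducibleComponent⟩
    have hyZ : y ∈ Z := by
      by_contra hyZ
      exact hle hzV ⟨Z, ⟨hZ, hyZ⟩, hzZ⟩
    obtain ⟨W, hyW, i, i', hW⟩ := Y.presheaf.germ_eq y hyV hyV a 0
      (by rw [ha, map_zero])
    obtain ⟨w, hwZ, hwW, hwa⟩ := (hZ.1.2 _ _ W.2 (Y.basicOpen a).2 ⟨y, hyZ, hyW⟩ ⟨z, hzZ, hz⟩)
    have : w ∈ Y.basicOpen (Y.presheaf.map i.op a) := by
      rw [Scheme.basicOpen_res]; exact ⟨hwW, hwa⟩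
    rw [show Y.presheaf.map i.op a = 0 by simpa using hW, Scheme.basicOpen_zero] at this
    exact this
  exact (basicOpen_eq_bot_iff a).1 hemp

end Groth.Agent.SpreadFP
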