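import Mathlib

/-!
Gluing morphisms given on a family of opens.
-/

set_option autoImplicit false
universe u

open CategoryTheory Limits AlgebraicGeometry TopologicalSpace

namespace Groth.Agent.SpreadFP

/-- Morphisms on opens agreeing on overlaps glue to their union. -/
theorem exists_glue {X Y : Scheme.{u}} {I : Type u} (w : I → X.Opens) (F : ∀ i, (w i).toScheme ⟶ Y)
    (hF : ∀ i j, X.homOfLE (inf_le_left : w i ⊓ w j ≤ w i) ≫ F i =
      X.homOfLE (inf_le_right : w i ⊓ w j ≤ w j) ≫ F j) :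
    ∃ G : (⨆ i, w i).toScheme ⟶ Y, ∀ i, X.homOfLE (le_iSup w i) ≫ G = F i := by
  let W := ⨆ i, w i
  have hcov : IsOpenCover fun i ↦ W.ι ⁻¹ᵁ w i := by
    refine IsOpenCover.mk (top_le_iff.1 fun z _ ↦ ?_)
    obtain ⟨i, hi⟩ := Opens.mem_iSup.1 z.2
    exact Opens.mem_iSup.2 ⟨i, hi⟩
  let 𝒰 := W.toScheme.openCoverOfIsOpenCover _ hcov
  have hcomp : ∀ i j, pullback.fst (𝒰.f i) (𝒰.f j) ≫ (W.ι ∣_ w i) ≫ F i =
      pullback.snd (𝒰.f i) (𝒰.f j) ≫ (W.ι ∣_ w j) ≫ F j := by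
    intro i j
    let a : pullback (𝒰.f i) (𝒰.f j) ⟶ X := pullback.fst (𝒰.f i) (𝒰.f j) ≫ 𝒰.f i ≫ W.ι
    have hai : a = (pullback.fst (𝒰.f i) (𝒰.f j) ≫ (W.ι ∣_ w i)) ≫ (w i).ι := by
      rw [Category.assoc]; erw [morphismRestrict_ι]; rfl
    have haj : a = (pullback.snd (𝒰.f i) (𝒰.f j) ≫ (W.ι ∣_ w j)) ≫ (w j).ι := by
      rw [Category.assoc]; erw [morphismRestrict_ι]
      exact pullback.condition_assoc _
    have hra : Set.range a ⊆ Set.range (w i ⊓ w j).ι := by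
      rw [Scheme.Opens.range_ι]
      rintro _ ⟨z, rfl⟩
      constructor
      · rw [hai, Scheme.Hom.comp_apply]; exact Subtype.prop _
      · rw [haj, Scheme.Hom.comp_apply]; exact Subtype.prop _
    have hi : pullback.fst (𝒰.f i) (𝒰.f j) ≫ (W.ι ∣_ w i) =
        IsOpenImmersion.lift (w i ⊓ w j).ι a hra ≫ X.homOfLE inf_le_left := by
      rw [← cancel_mono (w i).ι, ← hai, Category.assoc, Scheme.homOfLE_ι, IsOpenImmersion.lift_fac]
    have hj : pullback.snd (𝒰.f i) (𝒰.f j) ≫ (W.ι ∣_ w j) =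
        IsOpenImmersion.lift (w i ⊓ w j).ι a hra ≫ X.homOfLE inf_le_right := by
      rw [← cancel_mono (w j).ι, ← haj, Category.assoc, Scheme.homOfLE_ι, IsOpenImmersion.lift_fac]
    rw [reassoc_of% hi, reassoc_of% hj, hF]
  refine ⟨Scheme.Cover.glueMorphisms 𝒰 (fun i ↦ (W.ι ∣_ w i) ≫ F i) hcomp, fun i ↦ ?_⟩
  have hr : Set.range (X.homOfLE (le_iSup w i) : (w i).toScheme ⟶ W.toScheme) ⊆
      Set.range (W.ι ⁻¹ᵁ w i).ι := by
    rw [Scheme.Opens.range_ι]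
    rintro _ ⟨z, rfl⟩
    change W.ι (X.homOfLE (le_iSup w i) z) ∈ w i
    rw [← Scheme.Hom.comp_apply, Scheme.homOfLE_ι]
    exact z.2
  have hl : IsOpenImmersion.lift (W.ι ⁻¹ᵁ w i).ι (X.homOfLE (le_iSup w i)) hr ≫ (W.ι ∣_ w i) = 𝟙 _ := by
    rw [← cancel_mono (w i).ι, Category.assoc, morphismRestrict_ι, IsOpenImmersion.lift_fac_assoc,
      Category.id_comp, Scheme.homOfLE_ι]
  rw [← IsOpenImmersion.lift_fac (W.ι ⁻¹ᵁ w i).ι (X.homOfLE (le_iSup w i)) hr, Category.assoc]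
  erw [Scheme.Cover.ι_glueMorphisms 𝒰 (fun i ↦ (W.ι ∣_ w i) ≫ F i) hcomp i]
  erw [reassoc_of% hl]

/-- Two morphisms on opens agreeing on the overlap glue to their union. -/
theorem exists_glue_pair {X Y : Scheme.{u}} (U V : X.Opens) (a : U.toScheme ⟶ Y) (b : V.toScheme ⟶ Y)
    (h : X.homOfLE (inf_le_left : U ⊓ V ≤ U) ≫ a = X.homOfLE (inf_le_right : U ⊓ V ≤ V) ≫ b) :
    ∃ G : (U ⊔ V).toScheme ⟶ Y,
      X.homOfLE le_sup_left ≫ G = a ∧ X.homOfLE le_sup_right ≫ G = b := by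
  let w : ULift.{u} Bool → X.Opens := fun i ↦ bif i.down then U else V
  let F : ∀ i, (w i).toScheme ⟶ Y := fun ⟨i⟩ ↦ Bool.casesOn (motive := fun i ↦ (w ⟨i⟩).toScheme ⟶ Y) i b a
  obtain ⟨G, hG⟩ := exists_glue w F (by
    rintro ⟨_ | _⟩ ⟨_ | _⟩
    · rfl
    · change X.homOfLE (inf_le_left : V ⊓ U ≤ V) ≫ b = X.homOfLE (inf_le_right : V ⊓ U ≤ U) ≫ a
      rw [← X.homOfLE_homOfLE (show V ⊓ U ≤ U ⊓ V from le_of_eq (inf_comm _ _)) inf_le_right,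
        Category.assoc, ← h, Scheme.homOfLE_homOfLE_assoc]
    · exact h
    · rfl)
  have hle : U ⊔ V ≤ ⨆ i, w i := sup_le (le_iSup w ⟨true⟩) (le_iSup w ⟨false⟩)
  refine ⟨X.homOfLE hle ≫ G, ?_, ?_⟩
  · rw [Scheme.homOfLE_homOfLE_assoc]; exact hG ⟨true⟩
  · rw [Scheme.homOfLE_homOfLE_assoc]; exact hG ⟨false⟩

end Groth.Agent.SpreadFP
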