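import Groth.Agent.SpreadFP.Gen
import Groth.Agent.SpreadFP.Glue

/-!
Extending a morphism defined on an open through the local scheme at a point.
-/

set_option autoImplicit false
set_option linter.style.haveILetI false
universe u

open CategoryTheory Limits AlgebraicGeometry TopologicalSpace

namespace Groth.Agent.SpreadFP

variable {X Y S : Scheme.{u}}

lemma hom_ext_of_locally (a b : X ⟶ Y) (h : ∀ z : X, ∃ O : X.Opens, z ∈ O ∧ O.ι ≫ a = O.ι ≫ b) :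
    a = b := by
  choose O hz hO using h
  exact Scheme.Cover.hom_ext (X.openCoverOfIsOpenCover O
    (IsOpenCover.mk (top_le_iff.1 fun z _ ↦ Opens.mem_iSup.2 ⟨z, hz z⟩))) _ _ hO

/-- The opens on which two morphisms agree. -/
def agree (a b : X ⟶ Y) : X.Opens := sSup {O | O.ι ≫ a = O.ι ≫ b}

lemma comp_eq_of_mem_agree {T : Scheme.{u}} (j : T ⟶ X) (a b : X ⟶ Y) (h : ∀ t, j t ∈ agree a b) :
    j ≫ a = j ≫ b := by
  refine hom_ext_of_locally _ _ fun t ↦ ?_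
  obtain ⟨O, hO, htO⟩ := Opens.mem_sSup.1 (h t)
  refine ⟨j ⁻¹ᵁ O, htO, ?_⟩
  rw [← morphismRestrict_ι_assoc, ← morphismRestrict_ι_assoc]
  exact congr((j ∣_ O) ≫ $hO)

lemma fromSpecStalkOfMem_homOfLE {U V : X.Opens} (h : U ≤ V) {x : X} (hx : x ∈ U) :
    U.fromSpecStalkOfMem x hx ≫ X.homOfLE h = V.fromSpecStalkOfMem x (h hx) := by
  rw [← cancel_mono V.ι, Category.assoc, Scheme.homOfLE_ι, Scheme.Opens.fromSpecStalkOfMem_ι,
    Scheme.Opens.fromSpecStalkOfMem_ι]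

/-- Agreement near the generizations of `x` with the extension through `Spec O_x`. -/
theorem mem_agree_of_specializes (pY : Y ⟶ S) [LocallyOfFiniteType pY] (pX : X ⟶ S)
    (U : X.Opens) (h : U.toScheme ⟶ Y) (hh : h ≫ pY = U.ι ≫ pX) {x : X}
    (V₀ : X.Opens) (hx : x ∈ V₀) (v : V₀.toScheme ⟶ Y) (hv : v ≫ pY = V₀.ι ≫ pX)
    (hw : pullback.fst (X.fromSpecStalk x) U.ι ≫ V₀.fromSpecStalkOfMem x hx ≫ v =
      pullback.snd (X.fromSpecStalk x) U.ι ≫ h)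
    {z : X} (hz : z ∈ U ⊓ V₀) (hzx : z ⤳ x) :
    (⟨z, hz⟩ : (U ⊓ V₀).toScheme) ∈ agree (X.homOfLE (inf_le_left : U ⊓ V₀ ≤ U) ≫ h)
      (X.homOfLE (inf_le_right : U ⊓ V₀ ≤ V₀) ≫ v) := by
  let c : Spec (X.presheaf.stalk z) ⟶ Spec (X.presheaf.stalk x) := Spec.map (X.presheaf.stalkSpecializes hzx)
  obtain ⟨d, hd1, hd2⟩ : ∃ d, d ≫ pullback.fst (X.fromSpecStalk x) U.ι = c ∧
      d ≫ pullback.snd (X.fromSpecStalk x) U.ι = U.fromSpecStalkOfMem z hz.1 :=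
    ⟨pullback.lift c (U.fromSpecStalkOfMem z hz.1) (by
      rw [Scheme.SpecMap_stalkSpecializes_fromSpecStalk, Scheme.Opens.fromSpecStalkOfMem_ι]),
      pullback.lift_fst _ _ _, pullback.lift_snd _ _ _⟩
  have e := congr(d ≫ $hw)
  rw [reassoc_of% hd1, reassoc_of% hd2,
    reassoc_of% (RatMapD.specMap_stalkSpecializes_fromSpecStalkOfMem V₀ hzx hz.2 hx)] at e
  have e' : (U ⊓ V₀).fromSpecStalkOfMem z hz ≫ X.homOfLE (inf_le_left : U ⊓ V₀ ≤ U) ≫ h =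
      (U ⊓ V₀).fromSpecStalkOfMem z hz ≫ X.homOfLE (inf_le_right : U ⊓ V₀ ≤ V₀) ≫ v := by
    rw [reassoc_of% (fromSpecStalkOfMem_homOfLE (inf_le_left : U ⊓ V₀ ≤ U) hz),
      reassoc_of% (fromSpecStalkOfMem_homOfLE (inf_le_right : U ⊓ V₀ ≤ V₀) hz)]
    exact e.symm
  obtain ⟨O, hzO, hO⟩ := RatMapD.spread_out_unique_of_locallyOfFiniteType pY _ _ (by
    simp only [Category.assoc, hh, hv, Scheme.homOfLE_ι_assoc])
    (RatMapD.fromSpecStalk_comp_eq_of_fromSpecStalkOfMem_comp_eq (U ⊓ V₀) hz _ _ e')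
  exact Opens.mem_sSup.2 ⟨O, hO, hzO⟩

/-- A morphism on an open with an extension to the local scheme at `x` extends near `x`. -/
theorem exists_extension_of_specStalk (pX : X ⟶ S) (pY : Y ⟶ S)
    [IsSeparated pY] [LocallyOfFinitePresentation pY]
    (hX : IsLocallyNoetherian X ∨ (IsReduced X ∧ ∀ x : ↥X, ∃ W : X.Opens, x ∈ W ∧
      {Z : Set ↥X | Z ∈ irreducibleComponents ↥X ∧ (Z ∩ (W : Set ↥X)).Nonempty}.Finite))
    (U : X.Opens) (h : U.toScheme ⟶ Y) (hh : h ≫ pY = U.ι ≫ pX) (x : X)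
    (w : Spec (X.presheaf.stalk x) ⟶ Y) (hw₁ : w ≫ pY = X.fromSpecStalk x ≫ pX)
    (hw : pullback.fst (X.fromSpecStalk x) U.ι ≫ w = pullback.snd (X.fromSpecStalk x) U.ι ≫ h) :
    ∃ (V : X.Opens) (v : (V : Scheme.{u}) ⟶ Y), x ∈ V ∧ v ≫ pY = V.ι ≫ pX ∧
        X.homOfLE (inf_le_right : U ⊓ V ≤ V) ≫ v = X.homOfLE (inf_le_left : U ⊓ V ≤ U) ≫ h := by
  obtain ⟨V₀, hx, v, hv₁, hv⟩ := spread_out_of_locallyOfFinitePresentation pX pY w hw₁
  subst hv₁
  let a := X.homOfLE (inf_le_left : U ⊓ V₀ ≤ U) ≫ h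
  let b := X.homOfLE (inf_le_right : U ⊓ V₀ ≤ V₀) ≫ v
  suffices ∃ (V : X.Opens) (hle : V ≤ V₀), x ∈ V ∧
      X.homOfLE (le_inf inf_le_left (inf_le_right.trans hle) : U ⊓ V ≤ U ⊓ V₀) ≫ a =
        X.homOfLE (le_inf inf_le_left (inf_le_right.trans hle) : U ⊓ V ≤ U ⊓ V₀) ≫ b by
    obtain ⟨V, hle, hxV, hVab⟩ := this
    refine ⟨V, X.homOfLE hle ≫ v, hxV, by rw [Category.assoc, hv, Scheme.homOfLE_ι_assoc], ?_⟩
    simp only [a, b, Scheme.homOfLE_homOfLE_assoc] at hVab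
    rw [Scheme.homOfLE_homOfLE_assoc]
    exact hVab.symm
  rcases hX with hN | ⟨hred, hloc⟩
  · obtain ⟨V₁, hV₁, hxV₁, hle₁⟩ := exists_isAffineOpen_mem_and_subset (X := X) (x := x) (U := V₀) hx
    let T := U ⊓ V₁
    have hT : T ≤ U ⊓ V₀ := le_inf inf_le_left (inf_le_right.trans hle₁)
    haveI : IsAffine V₁.toScheme := hV₁
    haveI : IsNoetherian V₁.toScheme := { }
    haveI : CompactSpace T.toScheme := by
      have : NoetherianSpace T.toScheme :=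
        (X.homOfLE (inf_le_right : T ≤ V₁)).isEmbedding.isInducing.noetherianSpace
      infer_instance
    haveI : QuasiCompact T.ι := quasiCompact_of_compactSpace _
    let C : Set T.toScheme := (X.homOfLE hT ⁻¹' (agree a b : Set (U ⊓ V₀).toScheme))ᶜ
    have hC : IsClosed C := ((agree a b).2.preimage (X.homOfLE hT).continuous).isClosed_compl
    let I := Scheme.IdealSheafData.vanishingIdeal ⟨C, hC⟩
    have hr : Set.range I.subschemeι = C := by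
      rw [Scheme.IdealSheafData.range_subschemeι]; rfl
    have hxC : x ∉ closure (T.ι '' C) := by
      rw [← hr, ← Set.range_comp]
      intro hx'
      obtain ⟨z, hz⟩ := ImmDescent.exists_specializes_of_mem_closure_range (I.subschemeι ≫ T.ι) hx'
      have hzC : I.subschemeι z ∈ C := hr.subset ⟨z, rfl⟩
      refine hzC ?_
      have hval : (X.homOfLE hT (I.subschemeι z)).1 = T.ι (I.subschemeι z) := by
        change (U ⊓ V₀).ι (X.homOfLE hT (I.subschemeι z)) = _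
        rw [← Scheme.Hom.comp_apply, Scheme.homOfLE_ι]
      exact mem_agree_of_specializes pY pX U h hh V₀ hx v hv hw
        (X.homOfLE hT (I.subschemeι z)).2 (hval ▸ hz)
    let V : X.Opens := V₁ ⊓ ⟨(closure (T.ι '' C))ᶜ, isClosed_closure.isOpen_compl⟩
    refine ⟨V, inf_le_left.trans hle₁, ⟨hxV₁, hxC⟩, comp_eq_of_mem_agree _ a b fun t ↦ ?_⟩
    by_contra ht
    refine t.2.2.2 (subset_closure ⟨⟨t.1, t.2.1, t.2.2.1⟩, fun h' ↦ ht ?_, rfl⟩)
    convert (show X.homOfLE hT ⟨t.1, t.2.1, t.2.2.1⟩ ∈ agree a b from h') using 1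
    apply (U ⊓ V₀).ι.isOpenEmbedding.injective
    rw [← Scheme.Hom.comp_apply, ← Scheme.Hom.comp_apply, Scheme.homOfLE_ι, Scheme.homOfLE_ι]
    rfl
  · obtain ⟨W, hxW, hfin⟩ := hloc x
    let C : Set (Set X) := {Z ∈ irreducibleComponents ↥X | (Z ∩ (W : Set X)).Nonempty ∧ x ∉ Z}
    have hC : IsClosed (⋃₀ C) := by
      rw [Set.sUnion_eq_biUnion]
      exact (hfin.subset fun Z hZ ↦ ⟨hZ.1, hZ.2.1⟩).isClosed_biUnion
        fun Z hZ ↦ isClosed_of_mem_irreducibleComponents Z hZ.1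
    let V : X.Opens := V₀ ⊓ W ⊓ ⟨(⋃₀ C)ᶜ, hC.isOpen_compl⟩
    refine ⟨V, inf_le_left.trans inf_le_left, ⟨⟨hx, hxW⟩, fun ⟨Z, hZ, hxZ⟩ ↦ hZ.2.2 hxZ⟩, ?_⟩
    have hle : U ⊓ V ≤ U ⊓ V₀ := le_inf inf_le_left (inf_le_right.trans (inf_le_left.trans inf_le_left))
    let G : (U ⊓ V).toScheme.Opens := X.homOfLE hle ⁻¹ᵁ agree a b
    haveI : IsReduced (U ⊓ V).toScheme := isReduced_of_isOpenImmersion (U ⊓ V).ι
    haveI : IsDominant G.ι := by
      refine ⟨?_⟩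
      rw [DenseRange, Scheme.Opens.range_ι]
      refine dense_of_gens_subset fun η hη ↦ ?_
      obtain ⟨ξ, hξ, hξη⟩ := exists_gen_specializes ((U ⊓ V).ι η)
      have hξUV : ξ ∈ U ⊓ V := hξη.mem_open (U ⊓ V).2 η.2
      have hη' : (⟨ξ, hξUV⟩ : (U ⊓ V).toScheme) = η := eq_of_gens_specializes hη
        ((U ⊓ V).ι.isOpenEmbedding.isInducing.specializes_iff.1 hξη)
      subst hη'
      have hξx : ξ ⤳ x := by
        rw [specializes_iff_mem_closure]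
        by_contra hxn
        exact hξUV.2.2 ⟨closure {ξ}, ⟨hξ, ⟨ξ, subset_closure rfl, hξUV.2.1.2⟩, hxn⟩, subset_closure rfl⟩
      have := mem_agree_of_specializes pY pX U h hh V₀ hx v hv hw
        (show ξ ∈ U ⊓ V₀ from hle hξUV) hξx
      change X.homOfLE hle ⟨ξ, hξUV⟩ ∈ agree a b
      have e : (⟨ξ, hle hξUV⟩ : (U ⊓ V₀).toScheme) = X.homOfLE hle ⟨ξ, hξUV⟩ := by
        apply (U ⊓ V₀).ι.isOpenEmbedding.injective
        rw [← Scheme.Hom.comp_apply, Scheme.homOfLE_ι]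
        rfl
      exact e ▸ this
    refine ext_of_isDominant_of_isSeparated pY (by
      simp only [a, b, Category.assoc, hh, hv, Scheme.homOfLE_ι_assoc]) G.ι ?_
    have hG := comp_eq_of_mem_agree (G.ι ≫ X.homOfLE hle) a b fun t ↦ t.2
    simpa only [Category.assoc] using hG

end Groth.Agent.SpreadFP
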