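import Groth.Agent.SpreadFP.Birat

/-!
Spreading out isomorphisms of local rings.
-/

set_option autoImplicit false
set_option linter.style.haveILetI false
universe u

open CategoryTheory AlgebraicGeometry TopologicalSpace

namespace Groth.Agent.SpreadFP

variable {X Y S : Scheme.{u}}

/-- A morphism inducing a given isomorphism of local rings is an open immersion nearby. -/
theorem exists_nhd_isOpenImmersion (sX : X ⟶ S) (sY : Y ⟶ S) [LocallyOfFinitePresentation sX]
    [LocallyOfFinitePresentation sY] {x : X} {y : Y}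
    (φ : Y.presheaf.stalk y ⟶ X.presheaf.stalk x) [IsIso φ]
    (U : X.Opens) (hxU : x ∈ U) (f : U.toScheme ⟶ Y)
    (h1 : Spec.map φ ≫ Y.fromSpecStalk y = U.fromSpecStalkOfMem x hxU ≫ f)
    (h2 : f ≫ sY = U.ι ≫ sX) :
    ∃ (U' : X.Opens) (_ : x ∈ U') (hle : U' ≤ U), IsOpenImmersion (X.homOfLE hle ≫ f) := by
  let p : U.toScheme := ⟨x, hxU⟩
  have hfp : y = f p := by
    have := congr($h1 (IsLocalRing.closedPoint _))
    rw [Scheme.Hom.comp_apply, Scheme.Hom.comp_apply] at this
    change Y.fromSpecStalk y (PrimeSpectrum.comap φ.hom (IsLocalRing.closedPoint _)) = _ at this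
    rw [IsLocalRing.comap_closedPoint, Scheme.fromSpecStalk_closedPoint] at this
    rw [this]
    congr 1
    apply U.ι.isOpenEmbedding.injective
    change _ = x
    rw [← Scheme.Hom.comp_apply, Scheme.Opens.fromSpecStalkOfMem_ι, Scheme.fromSpecStalk_closedPoint]
  subst hfp
  haveI hiso : IsIso (f.stalkMap p) := by
    have h3 : φ = f.stalkMap p ≫ inv (U.ι.stalkMap p) := by
      apply Spec.map_injective
      rw [← cancel_mono (Y.fromSpecStalk (f p)), h1]
      erw [Spec.map_comp]
      rw [Scheme.Opens.fromSpecStalkOfMem, Category.assoc, ← Scheme.SpecMap_stalkMap_fromSpecStalk]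
      exact (Category.assoc _ _ _).symm
    haveI : IsIso (f.stalkMap p ≫ inv (U.ι.stalkMap p)) := h3 ▸ (inferInstance : IsIso φ)
    exact IsIso.of_isIso_comp_right _ (inv (U.ι.stalkMap p))
  have hf : LocallyOfFinitePresentation f :=
    FibrewiseCrit.locallyOfFinitePresentation_of_comp f sY (h2 ▸ inferInstance) inferInstance
  obtain ⟨O, hpO, hO⟩ := exists_isOpenImmersion_of_isIso_stalkMap f p (.inl hf)
  refine ⟨U.ι ''ᵁ O, ⟨p, hpO, rfl⟩, by rintro _ ⟨q, -, rfl⟩; exact q.2, ?_⟩
  rw [show X.homOfLE _ = (U.ι.isoImage O).inv ≫ O.ι by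
    rw [← cancel_mono U.ι, Scheme.homOfLE_ι, Category.assoc]
    rw [← cancel_epi (U.ι.isoImage O).hom, Iso.hom_inv_id_assoc, Scheme.Hom.isoImage_hom_ι],
    Category.assoc]
  infer_instance

end Groth.Agent.SpreadFP
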