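import Groth.Agent.SpreadFP.Gen

/-!
The base change of a birational morphism to the local scheme at a generic point.
-/

set_option autoImplicit false
set_option linter.style.haveILetI false
universe u

open CategoryTheory Limits AlgebraicGeometry TopologicalSpace

namespace Groth.Agent.SpreadFP

/-- A one-point scheme is the spectrum of its local ring. -/
theorem isIso_fromSpecStalk_of_subsingleton (P : Scheme.{u}) [Subsingleton P] (p : P) :
    IsIso (P.fromSpecStalk p) := by
  have hP : IsAffineOpen (⊤ : P.Opens) := isAffineOpen_top P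
  haveI : IsIso (P.presheaf.germ ⊤ p trivial) := by
    rw [ConcreteCategory.isIso_iff_bijective]
    letI := (P.presheaf.germ ⊤ p trivial).hom.toAlgebra
    have hloc : IsLocalization.AtPrime (P.presheaf.stalk p) (hP.primeIdealOf ⟨p, trivial⟩).asIdeal :=
      hP.isLocalization_stalk ⟨p, trivial⟩
    have hu : (hP.primeIdealOf ⟨p, trivial⟩).asIdeal.primeCompl ≤ IsUnit.submonoid Γ(P, ⊤) := by
      intro a ha
      refine P.toRingedSpace.isUnit_of_isUnit_germ ⊤ a fun z hz ↦ ?_
      obtain rfl : p = z := Subsingleton.elim (α := P) p z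
      exact IsLocalization.map_units (M := (hP.primeIdealOf ⟨p, trivial⟩).asIdeal.primeCompl)
        (P.presheaf.stalk p) ⟨a, ha⟩
    have hb := (IsLocalization.atUnits _ _ hu (S := P.presheaf.stalk p)).bijective
    convert hb
    ext a
    exact ((IsLocalization.atUnits _ _ hu (S := P.presheaf.stalk p)).commutes a).symm
  rw [← hP.fromSpecStalk_eq_fromSpecStalk (x := p) trivial, IsAffineOpen.fromSpecStalk]
  haveI : IsIso hP.fromSpec := by
    rw [IsAffineOpen.fromSpec_top]; infer_instance
  infer_instance

/-- The base change of a birational morphism to the local scheme at a generic point. -/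
theorem isIso_pullback_fromSpecStalk {X Y : Scheme.{u}} (f : X ⟶ Y)
    (hbij : Set.BijOn f (Gens X) (Gens Y))
    (hiso : ∀ x ∈ Gens X, IsIso (f.stalkMap x)) (y : Y) (hy : y ∈ Gens Y) :
    IsIso (pullback.snd f (Y.fromSpecStalk y)) := by
  obtain ⟨x, hx, rfl⟩ := hbij.surjOn hy
  haveI := hiso x hx
  let g : Spec (Y.presheaf.stalk (f x)) ⟶ X := Spec.map (inv (f.stalkMap x)) ≫ X.fromSpecStalk x
  have hg : g ≫ f = Y.fromSpecStalk (f x) := by
    rw [Category.assoc, ← Scheme.SpecMap_stalkMap_fromSpecStalk, ← Spec.map_comp_assoc,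
      IsIso.hom_inv_id, Spec.map_id, Category.id_comp]
  let s : Spec (Y.presheaf.stalk (f x)) ⟶ pullback f (Y.fromSpecStalk (f x)) :=
    pullback.lift g (𝟙 _) (by rw [hg, Category.id_comp])
  haveI : IsPreimmersion (pullback.fst f (Y.fromSpecStalk (f x))) :=
    MorphismProperty.pullback_fst _ _ inferInstance
  have hfst : ∀ z, pullback.fst f (Y.fromSpecStalk (f x)) z = x := by
    intro z
    have h1 := congr($(pullback.condition (f := f) (g := Y.fromSpecStalk (f x))) z)
    rw [Scheme.Hom.comp_apply, Scheme.Hom.comp_apply] at h1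
    have h2 : f (pullback.fst f (Y.fromSpecStalk (f x)) z) ∈ Set.range (Y.fromSpecStalk (f x)) :=
      ⟨_, h1.symm⟩
    rw [Scheme.range_fromSpecStalk] at h2
    have h3 : f (pullback.fst f (Y.fromSpecStalk (f x)) z) = f x := eq_of_gens_specializes hy h2
    exact hbij.injOn (eq_of_map_mem_gens f hbij hiso (by rw [h3]; exact hy)) hx h3
  haveI : Subsingleton ↥(pullback f (Y.fromSpecStalk (f x))) :=
    ⟨fun a b ↦ (pullback.fst f (Y.fromSpecStalk (f x))).isEmbedding.injective
      ((hfst a).trans (hfst b).symm)⟩
  let p := s (IsLocalRing.closedPoint _)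
  haveI := isIso_fromSpecStalk_of_subsingleton (pullback f (Y.fromSpecStalk (f x))) p
  refine ⟨s, ?_, pullback.lift_snd _ _ _⟩
  apply pullback.hom_ext
  · rw [Category.assoc, pullback.lift_fst, Category.id_comp,
      ← cancel_epi ((pullback f (Y.fromSpecStalk (f x))).fromSpecStalk p)]
    set a := (pullback f (Y.fromSpecStalk (f x))).fromSpecStalk p ≫
      pullback.fst f (Y.fromSpecStalk (f x)) with ha
    rw [← Category.assoc]
    set d := (pullback f (Y.fromSpecStalk (f x))).fromSpecStalk p ≫
      pullback.snd f (Y.fromSpecStalk (f x)) with hd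
    obtain ⟨φ, hφ⟩ : ∃ φ, a = Spec.map φ ≫ X.fromSpecStalk x := by
      have : a = Spec.map (X.presheaf.stalkSpecializes (Inseparable.of_eq (hfst p)).specializes ≫
          (pullback.fst f (Y.fromSpecStalk (f x))).stalkMap p) ≫ X.fromSpecStalk x := by
        rw [Spec.map_comp, Category.assoc, Scheme.SpecMap_stalkSpecializes_fromSpecStalk,
          Scheme.SpecMap_stalkMap_fromSpecStalk, ha]
      exact ⟨_, this⟩
    have hdφ : d = Spec.map (f.stalkMap x ≫ φ) := by
      rw [← cancel_mono (Y.fromSpecStalk (f x)), hd, Category.assoc, ← pullback.condition,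
        ← Category.assoc, ← ha, hφ, Spec.map_comp, Category.assoc, Category.assoc,
        Scheme.SpecMap_stalkMap_fromSpecStalk]
    rw [hφ, hdφ, Spec.map_comp, Category.assoc, ← Spec.map_comp_assoc (inv (f.stalkMap x)),
      IsIso.inv_hom_id, Spec.map_id, Category.id_comp]
  · rw [Category.assoc, pullback.lift_snd, Category.comp_id, Category.id_comp]

end Groth.Agent.SpreadFP
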