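import Groth.Agent.SpreadFP.Basic
import Groth.Agent.FibrewiseCrit.Basic

/-!
Birationality over a base from isomorphisms of local rings at generic points.
-/

set_option autoImplicit false
set_option linter.style.haveILetI false
universe u

open CategoryTheory AlgebraicGeometry TopologicalSpace

namespace Groth.Agent.SpreadFP

variable {X Y S : Scheme.{u}}

lemma specMap_eqToHom_fromSpecStalk {a b : S} (h : a = b) :
    Spec.map (eqToHom (congrArg S.presheaf.stalk h)) ≫ S.fromSpecStalk a = S.fromSpecStalk b := by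
  subst h; simp

lemma residue_eqToHom {a b : S} (h : a = b) :
    S.residue a ≫ eqToHom (congrArg S.residueField h) = eqToHom (congrArg S.presheaf.stalk h) ≫ S.residue b := by
  subst h; simp

lemma stalkSpecializes_eq_eqToHom {a b : S} (h : a = b) (h' : b ⤳ a) :
    S.presheaf.stalkSpecializes h' = eqToHom (congrArg S.presheaf.stalk h) := by
  subst h; simp

/-- The residue map at the generic point of an integral scheme is an isomorphism. -/
lemma isIso_residue_genericPoint (X : Scheme.{u}) [IsIntegral X] :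
    IsIso (X.residue (genericPoint ↥X)) := by
  refine (ConcreteCategory.isIso_iff_bijective _).2 ⟨?_, X.residue_surjective _⟩
  exact RingHom.injective (IsLocalRing.residue X.functionField)

/-- An isomorphism of local rings at generic points over the base gives birationality. -/
theorem birationalOver_of_stalkIso [IrreducibleSpace ↥X] [IrreducibleSpace ↥Y]
    (sX : X ⟶ S) (sY : Y ⟶ S)
    (hf : (LocallyOfFinitePresentation sX ∧ LocallyOfFinitePresentation sY) ∨
      (LocallyOfFiniteType sX ∧ LocallyOfFiniteType sY ∧ X.IsGermInjective ∧ Y.IsGermInjective))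
    (x : X) (y : Y) (hs : sX x = sY y) (e : X.presheaf.stalk x ≅ Y.presheaf.stalk y)
    (he : sX.stalkMap x ≫ e.hom = eqToHom (congrArg S.presheaf.stalk hs) ≫ sY.stalkMap y) :
    Scheme.BirationalOver sX sY := by
  have hφ : (Spec.map e.inv ≫ Y.fromSpecStalk y) ≫ sY = X.fromSpecStalk x ≫ sX := by
    have h1 : sX.stalkMap x = eqToHom (congrArg S.presheaf.stalk hs) ≫ sY.stalkMap y ≫ e.inv := by
      rw [← Category.assoc, ← he, Category.assoc, e.hom_inv_id, Category.comp_id]
    rw [Category.assoc, ← Scheme.SpecMap_stalkMap_fromSpecStalk, ← Scheme.SpecMap_stalkMap_fromSpecStalk,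
      h1, Spec.map_comp, Spec.map_comp, Category.assoc, Category.assoc, specMap_eqToHom_fromSpecStalk hs]
  obtain ⟨U, hxU, f, h1, h2⟩ := spread_out sX sY (x := x)
    (hf.imp (fun h ↦ h.2) (fun h ↦ ⟨h.2.1, h.2.2.1 x⟩)) _ hφ
  let p : U.toScheme := ⟨x, hxU⟩
  have hfp : y = f p := by
    have := congr($h1 (IsLocalRing.closedPoint _))
    rw [Scheme.Hom.comp_apply, Scheme.Hom.comp_apply] at this
    change Y.fromSpecStalk y (PrimeSpectrum.comap e.inv.hom (IsLocalRing.closedPoint _)) = _ at this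
    rw [IsLocalRing.comap_closedPoint, Scheme.fromSpecStalk_closedPoint] at this
    rw [this]
    congr 1
    apply U.ι.isOpenEmbedding.injective
    change _ = x
    rw [← Scheme.Hom.comp_apply, Scheme.Opens.fromSpecStalkOfMem_ι, Scheme.fromSpecStalk_closedPoint]
  subst hfp
  have hiso : IsIso (f.stalkMap p) := by
    have h3 : e.inv = f.stalkMap p ≫ inv (U.ι.stalkMap p) := by
      apply Spec.map_injective
      rw [← cancel_mono (Y.fromSpecStalk (f p)), h1]
      erw [Spec.map_comp]
      rw [Scheme.Opens.fromSpecStalkOfMem, Category.assoc, ← Scheme.SpecMap_stalkMap_fromSpecStalk]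
      exact (Category.assoc _ _ _).symm
    haveI : IsIso (f.stalkMap p ≫ inv (U.ι.stalkMap p)) := h3 ▸ (inferInstance : IsIso e.inv)
    exact IsIso.of_isIso_comp_right _ (inv (U.ι.stalkMap p))
  have hf' : LocallyOfFinitePresentation f ∨ (LocallyOfFiniteType f ∧ Y.IsGermInjectiveAt (f p)) := by
    rcases hf with ⟨hX, hY⟩ | ⟨hX, hY, -, hgY⟩
    · exact .inl (FibrewiseCrit.locallyOfFinitePresentation_of_comp f sY (h2 ▸ inferInstance) inferInstance)
    · haveI : LocallyOfFiniteType (f ≫ sY) := h2 ▸ inferInstance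
      exact .inr ⟨locallyOfFiniteType_of_comp f sY, hgY _⟩
  obtain ⟨O, hpO, hO⟩ := exists_isOpenImmersion_of_isIso_stalkMap f p hf'
  haveI : IsDominant (O.ι ≫ U.ι) := ⟨(O.ι ≫ U.ι).isOpenEmbedding.isOpen_range.dense ⟨_, ⟨p, hpO⟩, rfl⟩⟩
  haveI : IsDominant (O.ι ≫ f) := ⟨(O.ι ≫ f).isOpenEmbedding.isOpen_range.dense ⟨_, ⟨p, hpO⟩, rfl⟩⟩
  exact ((O.ι ≫ U.ι).birationalOver sX _ rfl).symm.trans
    ((O.ι ≫ f).birationalOver sY _ (by rw [Category.assoc, h2, Category.assoc]))

lemma exists_stalkIso_of_comp_eq {U : Scheme.{u}} (sX : X ⟶ S) (sY : Y ⟶ S)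
    (a : U ⟶ X) (b : U ⟶ Y) [IsOpenImmersion a] [IsOpenImmersion b] (h : a ≫ sX = b ≫ sY)
    (p : U) (x : X) (y : Y) (hx : a p = x) (hy : b p = y) :
    ∃ (hs : sX x = sY y) (e : X.presheaf.stalk x ≅ Y.presheaf.stalk y),
      sX.stalkMap x ≫ e.hom = eqToHom (congrArg S.presheaf.stalk hs) ≫ sY.stalkMap y := by
  subst hx hy
  refine ⟨congr($h p), asIso (a.stalkMap p) ≪≫ (asIso (b.stalkMap p)).symm, ?_⟩
  have := Scheme.Hom.stalkMap_congr_hom _ _ h p
  rw [Scheme.Hom.stalkMap_comp, Scheme.Hom.stalkMap_comp] at this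
  simp only [Iso.trans_hom, asIso_hom, Iso.symm_hom, asIso_inv]
  rw [reassoc_of% this]
  simp [stalkSpecializes_eq_eqToHom (congr($h p) : sX (a p) = sY (b p))]

/-- Birational schemes have isomorphic local rings at the generic points. -/
theorem exists_stalkIso_of_birationalOver [IrreducibleSpace ↥X] [IrreducibleSpace ↥Y]
    (sX : X ⟶ S) (sY : Y ⟶ S) (h : Scheme.BirationalOver sX sY) :
    ∃ (hs : sX (genericPoint ↥X) = sY (genericPoint ↥Y))
      (e : X.presheaf.stalk (genericPoint ↥X) ≅ Y.presheaf.stalk (genericPoint ↥Y)),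
      sX.stalkMap (genericPoint ↥X) ≫ e.hom =
        eqToHom (congrArg S.presheaf.stalk hs) ≫ sY.stalkMap (genericPoint ↥Y) := by
  obtain ⟨P, hP⟩ := h
  have hx : genericPoint ↥X ∈ P.source :=
    (genericPoint_specializes _).mem_open P.source.2 P.dense_source.nonempty.choose_spec
  have hy : genericPoint ↥Y ∈ P.target :=
    (genericPoint_specializes _).mem_open P.target.2 P.dense_target.nonempty.choose_spec
  let b := P.iso.hom ≫ P.target.ι
  refine exists_stalkIso_of_comp_eq sX sY P.source.ι b (by rw [Category.assoc]; exact Eq.symm hP)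
    ⟨_, hx⟩ _ _ rfl ?_
  obtain ⟨q, hq⟩ : genericPoint ↥Y ∈ Set.range b := by
    refine ⟨P.iso.inv ⟨_, hy⟩, ?_⟩
    change (P.iso.inv ≫ P.iso.hom ≫ P.target.ι) ⟨_, hy⟩ = _
    rw [Iso.inv_hom_id_assoc]; rfl
  have h1 : (⟨_, hx⟩ : P.source.toScheme) ⤳ q :=
    (P.source.ι.isOpenEmbedding.isInducing.specializes_iff).1 (genericPoint_specializes _)
  exact (Specializes.antisymm (hq ▸ h1.map b.continuous) (genericPoint_specializes _)).eq

end Groth.Agent.SpreadFP
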